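/-
The two factors of a central product are normal in it, and it is given by products of maps.
-/
import Cfsg.Agent.FusionLayer.Product.System
import Cfsg.Agent.Fusion.Invariant
import Cfsg.Agent.Fusion.NormalSubgroup

set_option autoImplicit false

namespace CfsgLib.FusionLayer.Components

open Cfsg Cfsg.FusionSystem CfsgLib.Fusion CfsgLib.FusionLayer.Product

variable {Ω : Type*} [Group Ω] {S S₁ S₂ : Subgroup Ω} {F : FusionSystem S}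
  {F₁ : FusionSystem S₁} {F₂ : FusionSystem S₂} {p : ℕ}

/-- What the definition of a central product says about the factors. -/
theorem structure_of_centralProduct [Finite S₁] [Finite S₂] [Fact p.Prime] (hp₁ : IsPGroup p S₁)
    (hp₂ : IsPGroup p S₂) (h₁ : F₁.IsSaturated p) (h₂ : F₂.IsSaturated p)
    (h : IsCentralProductOf F₁ F₂ F) :
    (∀ a ∈ S₁, ∀ b ∈ S₂, a * b = b * a) ∧ S₁ ⊓ S₂ ≤ F₁.center ∧ S₁ ⊓ S₂ ≤ F₂.center ∧
      S = S₁ ⊔ S₂ ∧ ProdMaps F₁ F₂ F := by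
  obtain ⟨D₀, hprod, Z, θ, hZc, -, -, hθ₁, hθ₂, hfac⟩ := h
  have hfin : Finite ↥(S₁.prod S₂) := Finite.of_equiv _ (S₁.prodEquiv S₂).symm.toEquiv
  have hc : ∀ a ∈ S₁, ∀ b ∈ S₂, a * b = b * a := by
    intro a ha b hb
    have ha' : ((a, 1) : Ω × Ω) ∈ S₁.prod S₂ := ⟨ha, one_mem _⟩
    have hb' : ((1, b) : Ω × Ω) ∈ S₁.prod S₂ := ⟨one_mem _, hb⟩
    rw [← hθ₁ a ha', ← hθ₂ b hb', ← map_mul, ← map_mul]
    exact congrArg θ (Subtype.ext (Prod.ext ((mul_one a).trans (one_mul a).symm)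
      ((one_mul b).trans (mul_one b).symm)))
  have hθ : θ = mulHom hc := MonoidHom.ext fun z => by
    show θ z = (z : Ω × Ω).1 * (z : Ω × Ω).2
    refine Eq.trans ?_ (congrArg₂ (· * ·)
      (hθ₁ _ (⟨z.2.1, one_mem _⟩ : ((((z : Ω × Ω).1, 1) : Ω × Ω) ∈ S₁.prod S₂)))
      (hθ₂ _ (⟨one_mem _, z.2.2⟩ : (((1, (z : Ω × Ω).2) : Ω × Ω) ∈ S₁.prod S₂))))
    exact (congrArg θ (Subtype.ext (Prod.ext (mul_one _).symm (one_mul _).symm))).trans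
      (map_mul θ _ _)
  subst hθ
  obtain ⟨hZS, hker, hrange, hmaps⟩ := id hfac
  have hS : S = S₁ ⊔ S₂ := hrange.symm.trans (range_mulHom hc)
  have hmemZ : ∀ a ∈ S₁ ⊓ S₂, ((a, a⁻¹) : Ω × Ω) ∈ Z := fun a ha =>
    (hker ⟨(a, a⁻¹), ha.1, Subgroup.inv_mem _ ha.2⟩).1 (mul_inv_cancel a)
  have hfix : ∀ z ∈ Z, ∀ (P : Subgroup (Ω × Ω)) (φ : P →* Ω × Ω) (hz : z ∈ P),
      φ ∈ D₀.Hom P → φ ⟨z, hz⟩ = z := fun z hz P φ hzP hφ =>
    apply_eq_of_central (FusionFactor.isCentral_center D₀) hφ (x := ⟨z, hzP⟩) (hZc hz)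
  -- the maps of the product which act on one side only
  have side₁ : ∀ {P : Subgroup Ω} {φ : P →* Ω}, φ ∈ F₁.Hom P → ∀ a ∈ S₁ ⊓ S₂,
      ∀ (ha : a ∈ P), φ ⟨a, ha⟩ = a := by
    intro P φ hφ a hab ha
    have hP := le_left hφ
    let χ : ↥(P.prod S₂) →* Ω × Ω := MonoidHom.prod
      (φ.comp (((MonoidHom.fst Ω Ω).comp (P.prod S₂).subtype).codRestrict P fun z => z.2.1))
      ((MonoidHom.snd Ω Ω).comp (P.prod S₂).subtype)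
    have l₂ : (P.prod S₂).map (MonoidHom.snd Ω Ω) ≤ S₂ := by
      rintro _ ⟨z, hz, rfl⟩
      exact hz.2
    have l₁ : (P.prod S₂).map (MonoidHom.fst Ω Ω) ≤ P := by
      rintro _ ⟨z, hz, rfl⟩
      exact hz.1
    have hχ : χ ∈ D₀.Hom (P.prod S₂) := (hprod _ _).2
      ⟨fun z hz => ⟨hP hz.1, hz.2⟩, _, restrict_mem hφ l₁, _, subtype_mem l₂,
        fun x _ _ => rfl⟩
    exact congrArg Prod.fst (hfix _ (hmemZ a hab) _ χ ⟨ha, Subgroup.inv_mem _ hab.2⟩ hχ)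
  have side₂ : ∀ {P : Subgroup Ω} {φ : P →* Ω}, φ ∈ F₂.Hom P → ∀ a ∈ S₁ ⊓ S₂,
      ∀ (ha : a ∈ P), φ ⟨a, ha⟩ = a := by
    intro P φ hφ a hab ha
    have hP := le_left hφ
    let χ : ↥(S₁.prod P) →* Ω × Ω := MonoidHom.prod
      ((MonoidHom.fst Ω Ω).comp (S₁.prod P).subtype)
      (φ.comp (((MonoidHom.snd Ω Ω).comp (S₁.prod P).subtype).codRestrict P fun z => z.2.2))
    have l₂ : (S₁.prod P).map (MonoidHom.snd Ω Ω) ≤ P := by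
      rintro _ ⟨z, hz, rfl⟩
      exact hz.2
    have l₁ : (S₁.prod P).map (MonoidHom.fst Ω Ω) ≤ S₁ := by
      rintro _ ⟨z, hz, rfl⟩
      exact hz.1
    have hχ : χ ∈ D₀.Hom (S₁.prod P) := (hprod _ _).2
      ⟨fun z hz => ⟨hz.1, hP hz.2⟩, _, subtype_mem l₁, _, restrict_mem hφ l₂,
        fun x _ _ => rfl⟩
    have hmem : ((a⁻¹, a) : Ω × Ω) ∈ Z := by
      have := hmemZ a⁻¹ ⟨Subgroup.inv_mem _ hab.1, Subgroup.inv_mem _ hab.2⟩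
      rwa [inv_inv] at this
    exact congrArg Prod.snd (hfix _ hmem _ χ ⟨Subgroup.inv_mem _ hab.1, ha⟩ hχ)
  have hZ₁ : S₁ ⊓ S₂ ≤ F₁.center := le_sSup (isCentral_of_forall hp₁ h₁ inf_le_left
    fun x hx y ⟨φ, hφ, e⟩ => e ▸ side₁ hφ x hx _)
  have hZ₂ : S₁ ⊓ S₂ ≤ F₂.center := le_sSup (isCentral_of_forall hp₂ h₂ inf_le_right
    fun x hx y ⟨φ, hφ, e⟩ => e ▸ side₂ hφ x hx _)
  refine ⟨hc, hZ₁, hZ₂, hS, ?_⟩
  obtain ⟨D, -, ⟨D₀', hprod', Z', θ', -, -, -, hθ₁', hθ₂', hfac'⟩, hD⟩ :=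
    exists_central_product hp₁ hp₂ h₁ h₂ hc hZ₁ hZ₂
  have hθ' : θ' = mulHom hc := MonoidHom.ext fun z => by
    show θ' z = (z : Ω × Ω).1 * (z : Ω × Ω).2
    refine Eq.trans ?_ (congrArg₂ (· * ·)
      (hθ₁' _ (⟨z.2.1, one_mem _⟩ : ((((z : Ω × Ω).1, 1) : Ω × Ω) ∈ S₁.prod S₂)))
      (hθ₂' _ (⟨one_mem _, z.2.2⟩ : (((1, (z : Ω × Ω).2) : Ω × Ω) ∈ S₁.prod S₂))))
    exact (congrArg θ' (Subtype.ext (Prod.ext (mul_one _).symm (one_mul _).symm))).trans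
      (map_mul θ' _ _)
  subst hθ'
  intro P φ
  rw [← hD P φ, hmaps P φ, hfac'.2.2.2 P φ, hS]
  constructor <;> rintro ⟨hP, φ', hφ', hind⟩
  · exact ⟨hP, φ', (hprod' _ _).2 ((hprod _ _).1 hφ'), hind⟩
  · exact ⟨hP, φ', (hprod _ _).2 ((hprod' _ _).1 hφ'), hind⟩

/-- The maps of the product between subgroups of a factor are maps of the factor. -/
theorem mem_left_of_le [Finite S₁] [Finite S₂] (hZ₁ : S₁ ⊓ S₂ ≤ F₁.center)
    (hZ₂ : S₁ ⊓ S₂ ≤ F₂.center) (hD : ProdMaps F₁ F₂ F) {P : Subgroup Ω} (hP : P ≤ S₁)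
    {φ : P →* Ω} (hφ : φ ∈ F.Hom P) : φ ∈ F₁.Hom P := by
  obtain ⟨P₁, P₂, φ₁, hφ₁, φ₂, hφ₂, hex, hv⟩ := (hD P φ).1 hφ
  obtain ⟨ψ, hψ, h1, h2⟩ := exists_ext_center hφ₁
  have key : ∀ x : P, ∃ (a : P₁) (b : Ω) (hb : b ∈ F₁.center),
      (a : Ω) * b = x ∧ φ x = φ₁ a * b := by
    intro x
    obtain ⟨a, b, e⟩ := hex x
    have hb : (b : Ω) ∈ S₁ ⊓ S₂ := ⟨by
      rw [show (b : Ω) = (a : Ω)⁻¹ * x by rw [← e, inv_mul_cancel_left]]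
      exact mul_mem (Subgroup.inv_mem _ (le_left hφ₁ a.2)) (hP x.2), le_left hφ₂ b.2⟩
    refine ⟨a, b, hZ₁ hb, e, ?_⟩
    rw [hv x a b e, apply_eq_of_central (FusionFactor.isCentral_center F₂) hφ₂ (hZ₂ hb)]
  have hle : P ≤ P₁ ⊔ F₁.center := fun x hx => by
    obtain ⟨a, b, hb, e, -⟩ := key ⟨x, hx⟩
    have e' : (a : Ω) * b = x := e
    exact e' ▸ Subgroup.mul_mem_sup a.2 hb
  refine mem_congr (restrict_mem hψ hle) fun x => ?_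
  obtain ⟨a, b, hb, e, hx⟩ := key x
  rw [hx, ← h1 a]
  refine Eq.trans (congrArg (ψ (Subgroup.inclusion le_sup_left a) * ·) (h2 ⟨b, hb⟩).symm) ?_
  rw [← map_mul]
  exact congrArg ψ (Subtype.ext e)

/-- A map of the factor is a map of the product. -/
theorem left_isSubsystemOf [Finite S₁] [Finite S₂] (hZ₁ : S₁ ⊓ S₂ ≤ F₁.center)
    (hZ₂ : S₁ ⊓ S₂ ≤ F₂.center) (hD : ProdMaps F₁ F₂ F) : F₁.IsSubsystemOf F :=
  fun P φ hφ => hD.mk_mem hZ₁ hZ₂ hφ (subtype_mem (bot_le : (⊥ : Subgroup Ω) ≤ S₂))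
    fun x => ⟨x, 1, mul_one _, by rw [map_one, mul_one]⟩

/-- **The factors of a central product are normal in it.** -/
theorem left_isNormalIn [Finite S₁] [Finite S₂] [Fact p.Prime] (h₁ : F₁.IsSaturated p)
    (hF : F.IsSaturated p) (hc : ∀ a ∈ S₁, ∀ b ∈ S₂, a * b = b * a)
    (hZ₁ : S₁ ⊓ S₂ ≤ F₁.center) (hZ₂ : S₁ ⊓ S₂ ≤ F₂.center) (hS : S = S₁ ⊔ S₂)
    (hD : ProdMaps F₁ F₂ F) : F₁.IsNormalIn F p := by
  subst hS
  have hsc : F.StronglyClosed S₁ := ⟨le_sup_left, fun R hR φ hφ x =>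
    apply_mem (mem_left_of_le hZ₁ hZ₂ hD hR hφ) x⟩
  refine ⟨⟨h₁, hF, left_isSubsystemOf hZ₁ hZ₂ hD, hsc, ?_, fun P hP φ hφ =>
    ⟨1, one_mem _, φ, mem_left_of_le hZ₁ hZ₂ hD hP hφ, fun x hx => rfl⟩⟩, fun α hα => ?_⟩
  · refine autInvariant_of_strongInvariant hsc fun P Q hPQ hQ φ hφ hφQ ψ hψ' => ?_
    have hψ := mem_left_of_le hZ₁ hZ₂ hD hQ hψ'
    obtain ⟨θ, hθ, hθv⟩ := F₁.inv_mem hψ
    have hle : (P.subgroupOf Q).map ψ ≤ ψ.range := Subgroup.map_le_range ψ _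
    have hθP : ∀ z, restrictHom θ hle z ∈ P := by
      rintro ⟨_, x, hx, rfl⟩
      show θ ⟨ψ x, _⟩ ∈ P
      rw [hθv x]
      exact hx
    have hmid := F₁.comp_mem (restrict_mem hθ hle) hφ hθP
    have hmidQ : ∀ z, φ.comp ((restrictHom θ hle).codRestrict P hθP) z ∈ Q := fun z => hφQ _
    refine ⟨_, F₁.comp_mem hmid hψ hmidQ, fun x hx => ?_⟩
    show ψ ⟨φ ⟨θ ⟨ψ (Subgroup.inclusion hPQ x), _⟩, _⟩, _⟩ = ψ ⟨φ x, _⟩
    refine congrArg ψ (Subtype.ext (congrArg φ (Subtype.ext ?_)))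
    exact hθv (Subgroup.inclusion hPQ x)
  have hI := (mem_autGroup_iff le_rfl).1 hα
  have hCS : S₁ ⊔ centralizerIn (S₁ ⊔ S₂) S₁ = S₁ ⊔ S₂ := by
    exact le_antisymm (sup_le le_sup_left (centralizerIn_le _ _)) (sup_le_sup_left (fun b hb =>
      mem_centralizerIn.2 ⟨Subgroup.mem_sup_right hb, fun a ha => hc a ha b hb⟩) _)
  have hdec : ∀ x : ↥(S₁ ⊔ centralizerIn (S₁ ⊔ S₂) S₁),
      ∃ (a : S₁) (b : S₂), (a : Ω) * b = x := fun x => by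
    obtain ⟨a, ha, b, hb, e⟩ := exists_mul_eq hc (hCS.le x.2)
    exact ⟨⟨a, ha⟩, ⟨b, hb⟩, e⟩
  choose A B hAB using hdec
  let f : ↥(S₁ ⊔ centralizerIn (S₁ ⊔ S₂) S₁) →* Ω :=
    MonoidHom.mk' (fun x => (α (A x) : Ω) * (B x : Ω)) fun x y => by
      have e : ((A x * A y : S₁) : Ω) * ((B x * B y : S₂) : Ω) =
          (A (x * y) : Ω) * (B (x * y) : Ω) := by
        rw [hAB (x * y), Subgroup.coe_mul, Subgroup.coe_mul, Subgroup.coe_mul,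
          mul_assoc, ← mul_assoc (A y : Ω), hc _ (A y).2 _ (B x).2]
        simp only [mul_assoc, hAB]
        rw [← mul_assoc, hAB]
      have h' := decomp_unique hZ₁ hZ₂ hI (subtype_mem (F := F₂) le_rfl) e
      show (α (A (x * y)) : Ω) * (B (x * y) : Ω) = _
      refine h'.symm.trans ?_
      show (α (A x * A y) : Ω) * ((B x : Ω) * (B y : Ω)) = _
      rw [map_mul, Subgroup.coe_mul, mul_assoc, ← mul_assoc (α (A y) : Ω),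
        hc _ (α (A y)).2 _ (B x).2]
      simp only [mul_assoc]
  have hval : ∀ (x : ↥(S₁ ⊔ centralizerIn (S₁ ⊔ S₂) S₁)) (a : S₁) (b : S₂),
      (a : Ω) * b = x → f x = (α a : Ω) * b := fun x a b e =>
    decomp_unique hZ₁ hZ₂ hI (subtype_mem (F := F₂) le_rfl) ((hAB x).trans e.symm)
  have hf : f ∈ F.Hom (S₁ ⊔ centralizerIn (S₁ ⊔ S₂) S₁) :=
    hD.mk_mem hZ₁ hZ₂ hI (subtype_mem (F := F₂) le_rfl) fun x => ⟨A x, B x, hAB x, rfl⟩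
  have hfS : f.range = S₁ ⊔ centralizerIn (S₁ ⊔ S₂) S₁ := by
    refine le_antisymm ((range_le hf).trans hCS.ge) fun y hy => ?_
    obtain ⟨a, ha, b, hb, rfl⟩ := exists_mul_eq hc (hCS.le hy)
    refine ⟨⟨(α.symm ⟨a, ha⟩ : S₁) * b, hCS.symm ▸ mul_mem
      (Subgroup.mem_sup_left (α.symm ⟨a, ha⟩).2) (Subgroup.mem_sup_right hb)⟩, ?_⟩
    rw [hval _ (α.symm ⟨a, ha⟩) ⟨b, hb⟩ rfl, MulEquiv.apply_symm_apply]
  obtain ⟨β, hβ, hβv⟩ := exists_iso hf hfS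
  refine ⟨β, hβ.mem_autGroup, fun x => ?_, fun c hcC => ?_⟩
  · rw [hβv, hval _ x 1 (mul_one _), Subgroup.coe_one, mul_one]
  obtain ⟨-, hcomm⟩ := mem_centralizerIn.1 hcC
  have hA : ∀ y ∈ S₁, (A c : Ω) * y = y * (A c : Ω) := fun y hy => by
    have h := hcomm y hy
    rw [← hAB c, mul_assoc, ← hc y hy _ (B c).2, ← mul_assoc, ← mul_assoc] at h
    exact (mul_right_cancel h).symm
  have hαA : ∀ y ∈ S₁, (α (A c) : Ω) * y = y * (α (A c) : Ω) := fun y hy => by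
    have h : A c * α.symm ⟨y, hy⟩ = α.symm ⟨y, hy⟩ * A c :=
      Subtype.ext (hA _ (α.symm ⟨y, hy⟩).2)
    have h' := congrArg (fun w : S₁ => ((α w : S₁) : Ω)) h
    simp only [map_mul, MulEquiv.apply_symm_apply, Subgroup.coe_mul] at h'
    exact h'
  have e : (c : Ω)⁻¹ * (β c : Ω) = (A c : Ω)⁻¹ * (α (A c) : Ω) := by
    rw [hβv]
    show _ * ((α (A c) : Ω) * (B c : Ω)) = _
    rw [← hAB c, mul_inv_rev, show (B c : Ω)⁻¹ * (A c : Ω)⁻¹ * ((α (A c) : Ω) * (B c : Ω)) =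
      (B c : Ω)⁻¹ * ((A c : Ω)⁻¹ * (α (A c) : Ω)) * (B c : Ω) by group, mul_assoc,
      hc _ (mul_mem (Subgroup.inv_mem _ (A c).2) (α (A c)).2) _ (B c).2, inv_mul_cancel_left]
  rw [e]
  refine ⟨mul_mem (Subgroup.inv_mem _ (A c).2) (α (A c)).2,
    Subgroup.mul_mem _ (Subgroup.inv_mem _ (Subgroup.mem_centralizer_iff.2 fun y hy => ?_))
      (Subgroup.mem_centralizer_iff.2 fun y hy => (hαA y hy).symm)⟩
  exact (hA y hy).symm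

/-- Exchanging the factors. -/
theorem prodMaps_symm (hc : ∀ a ∈ S₁, ∀ b ∈ S₂, a * b = b * a) (hD : ProdMaps F₁ F₂ F) :
    ProdMaps F₂ F₁ F := fun P φ => by
  rw [hD P φ]
  constructor <;> rintro ⟨P₁, P₂, φ₁, hφ₁, φ₂, hφ₂, hex, hv⟩
  · refine ⟨P₂, P₁, φ₂, hφ₂, φ₁, hφ₁, fun x => ?_, fun x a b e => ?_⟩
    · obtain ⟨a, b, e⟩ := hex x
      exact ⟨b, a, (hc _ (le_left hφ₁ a.2) _ (le_left hφ₂ b.2)).symm.trans e⟩
    · rw [hv x b a ((hc _ (le_left hφ₁ b.2) _ (le_left hφ₂ a.2)).trans e)]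
      exact hc _ (apply_mem hφ₁ b) _ (apply_mem hφ₂ a)
  · refine ⟨P₂, P₁, φ₂, hφ₂, φ₁, hφ₁, fun x => ?_, fun x a b e => ?_⟩
    · obtain ⟨a, b, e⟩ := hex x
      exact ⟨b, a, (hc _ (le_left hφ₂ b.2) _ (le_left hφ₁ a.2)).trans e⟩
    · rw [hv x b a ((hc _ (le_left hφ₂ a.2) _ (le_left hφ₁ b.2)).symm.trans e)]
      exact (hc _ (apply_mem hφ₂ a) _ (apply_mem hφ₁ b)).symm

end CfsgLib.FusionLayer.Components
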