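/-
A component of a central product is a component of one of the two factors.
-/
import Cfsg.Agent.FusionLayer.Components.Factor
import Cfsg.Agent.FusionLayer.Product.Normal
import Cfsg.Agent.FusionLayer.Product.Central
import Cfsg.Agent.FusionComponents.Intersection
import Cfsg.Agent.FusionComponents.Quasisimple
import Cfsg.Agent.FusionComponents.Basic

set_option autoImplicit false

namespace CfsgLib.FusionLayer.Components

open Cfsg Cfsg.FusionSystem CfsgLib.Fusion CfsgLib.FusionLayer.Product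

variable {Ω : Type*} [Group Ω] {p : ℕ}

/-- A chain of normal inclusions of a given length. -/
inductive NormalChain (p : ℕ) :
    ℕ → ∀ {T : Subgroup Ω}, FusionSystem T → ∀ {S : Subgroup Ω}, FusionSystem S → Prop
  | refl {S : Subgroup Ω} (F : FusionSystem S) : NormalChain p 0 F F
  | step {n : ℕ} {T U S : Subgroup Ω} {E : FusionSystem T} {D : FusionSystem U}
      {F : FusionSystem S} :
      NormalChain p n E D → D.IsNormalIn F p → NormalChain p (n + 1) E F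

theorem exists_normalChain {T S : Subgroup Ω} {E : FusionSystem T} {F : FusionSystem S}
    (h : E.IsSubnormalIn F p) : ∃ n, NormalChain p n E F := by
  induction h with
  | refl F q => exact ⟨0, .refl F⟩
  | step _ hn ih =>
    obtain ⟨n, hc⟩ := ih
    exact ⟨n + 1, hc.step hn⟩

theorem NormalChain.isSubnormalIn {n : ℕ} {T S : Subgroup Ω} {E : FusionSystem T}
    {F : FusionSystem S} (h : NormalChain p n E F) : E.IsSubnormalIn F p := by
  induction h with
  | refl F => exact .refl F p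
  | step _ hn ih => exact .step ih hn

theorem NormalChain.isSubsystemOf {n : ℕ} {T S : Subgroup Ω} {E : FusionSystem T}
    {F : FusionSystem S} (h : NormalChain p n E F) : E.IsSubsystemOf F ∧ T ≤ S := by
  induction h with
  | refl F => exact ⟨fun P φ hφ => hφ, le_rfl⟩
  | step _ hn ih =>
    exact ⟨fun P φ hφ => hn.1.2.2.1 P (ih.1 P hφ), ih.2.trans hn.1.2.2.2.1.1⟩

/-- Intersecting a chain with a normal subsystem. -/
theorem NormalChain.inter [Fact p.Prime] {n : ℕ} {T S : Subgroup Ω} {E : FusionSystem T}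
    {F : FusionSystem S} (h : NormalChain p n E F) : Finite S → IsPGroup p S →
      ∀ {U : Subgroup Ω} {N : FusionSystem U}, N.IsNormalIn F p →
        ∃ (V : Subgroup Ω) (M : FusionSystem V),
          V = T ⊓ U ∧ NormalChain p n M N ∧ M.IsNormalIn E p := by
  induction h with
  | refl F =>
    intro _ _ U N hN
    exact ⟨U, N, (inf_eq_right.2 hN.1.2.2.2.1.1).symm, .refl N, hN⟩
  | @step n T U₁ S E D F hED hD ih =>
    intro hfin hS U N hN
    have : Finite S := hfin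
    obtain ⟨O, -, hO₁, hO₂⟩ := FusionComponents.exists_normal_inter hS hD hN
    have := finite_of_le hD.1.2.2.2.1.1
    obtain ⟨V, M, hV, hM, hME⟩ :=
      ih (finite_of_le hD.1.2.2.2.1.1) (hS.to_le hD.1.2.2.2.1.1) hO₁
    refine ⟨V, M, ?_, hM.step hO₂, hME⟩
    rw [hV, ← inf_assoc, inf_eq_left.2 hED.isSubsystemOf.2]

/-- The group of a quasisimple system is not inside its centre. -/
theorem not_le_center [Fact p.Prime] {S : Subgroup Ω} [Finite S] {F : FusionSystem S}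
    (hq : F.Quasisimple p) : ¬ S ≤ F.center := by
  intro h
  obtain ⟨-, -, hfac⟩ := hq
  have hcs : F.StronglyClosed F.center :=
    FusionLayer.stronglyClosed_of_central (FusionFactor.isCentral_center F)
  obtain ⟨E, hE⟩ := FusionFactor.exists_factorSystem_quotient F F.center hcs
  refine (hfac E hE).2.1 (eq_bot_iff.2 fun y _ => ?_)
  obtain ⟨s, rfl⟩ := QuotientGroup.mk'_surjective _ y
  rw [Subgroup.mem_bot, QuotientGroup.mk'_apply, QuotientGroup.eq_one_iff,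
    Subgroup.mem_subgroupOf]
  exact h s.2

/-- A quasisimple end of a chain lies in a normal subsystem unless the intersection is central. -/
theorem NormalChain.of_not_central [Fact p.Prime] {n : ℕ} {T S U : Subgroup Ω} [Finite S]
    (hS : IsPGroup p S) {E : FusionSystem T} {F : FusionSystem S} {N : FusionSystem U}
    (h : NormalChain p n E F) (hq : E.Quasisimple p) (hN : N.IsNormalIn F p) :
    T ⊓ U ≤ E.center ∨ NormalChain p n E N := by
  obtain ⟨V, M, hV, hM, hME⟩ := h.inter inferInstance hS hN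
  have := finite_of_le h.isSubsystemOf.2
  rcases FusionComponents.normal_of_quasisimple (hS.to_le h.isSubsystemOf.2) hq hME with hc | hall
  · exact Or.inl (hV ▸ hc)
  refine Or.inr ?_
  obtain rfl : V = T := le_antisymm hME.1.2.2.2.1.1 fun x hx => by
    exact le_left (hall _ (subtype_mem (F := E) le_rfl)) hx
  obtain rfl : M = E := by
    have hHom : M.Hom = E.Hom := funext fun P => Set.Subset.antisymm (hME.1.2.2.1 P) (hall P)
    cases M
    cases E
    cases hHom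
    rfl
  exact hM

/-- Both components of `x⁻¹ φ x` lie in a strongly closed subgroup containing the source. -/
theorem inv_mul_apply_mem {S₁ S₂ S U : Subgroup Ω} [Finite S₁] [Finite S₂]
    {F : FusionSystem S} {F₁ : FusionSystem S₁} {F₂ : FusionSystem S₂}
    (hc : ∀ a ∈ S₁, ∀ b ∈ S₂, a * b = b * a)
    (hZ₁ : S₁ ⊓ S₂ ≤ F₁.center) (hZ₂ : S₁ ⊓ S₂ ≤ F₂.center) (hD : ProdMaps F₁ F₂ F)
    (hU : F.StronglyClosed U) {P : Subgroup Ω} (hP : P ≤ U) {φ : P →* Ω} (hφ : φ ∈ F.Hom P)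
    (x : P) : (x : Ω)⁻¹ * φ x ∈ (U ⊓ S₁) ⊔ (U ⊓ S₂) := by
  obtain ⟨P₁, P₂, φ₁, hφ₁, φ₂, hφ₂, hex, hv⟩ := (hD P φ).1 hφ
  choose A B hAB using hex
  let g : P → Ω := fun y => φ₁ (A y) * (B y : Ω)
  have hunique : ∀ (y : P) (a : P₁) (b : P₂), (a : Ω) * b = y → g y = φ₁ a * b := fun y a b e =>
    decomp_unique hZ₁ hZ₂ hφ₁ (subtype_mem (le_left hφ₂)) ((hAB y).trans e.symm)
  let χ : P →* Ω := MonoidHom.mk' g fun y z => by
    rw [hunique (y * z) (A y * A z) (B y * B z) ?_]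
    · show φ₁ (A y * A z) * ((B y : Ω) * (B z : Ω)) = φ₁ (A y) * B y * (φ₁ (A z) * B z)
      rw [map_mul, mul_assoc, ← mul_assoc (φ₁ (A z)),
        hc _ (apply_mem hφ₁ _) _ (le_left hφ₂ (B y).2)]
      simp only [mul_assoc]
    · rw [Subgroup.coe_mul, Subgroup.coe_mul, Subgroup.coe_mul, mul_assoc,
        ← mul_assoc (A z : Ω), hc _ (le_left hφ₁ (A z).2) _ (le_left hφ₂ (B y).2)]
      simp only [mul_assoc]
      rw [← mul_assoc, hAB, hAB]
  have hχ : χ ∈ F.Hom P := hD.mk_mem hZ₁ hZ₂ hφ₁ (subtype_mem (le_left hφ₂))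
    fun y => ⟨A y, B y, hAB y, rfl⟩
  have hχU : χ x ∈ U := stronglyClosed_apply hU hχ (hP x.2)
  have hφU : φ x ∈ U := stronglyClosed_apply hU hφ (hP x.2)
  have hA₁ := le_left hφ₁ (A x).2
  have hB₂ := le_left hφ₂ (B x).2
  have hα : (A x : Ω)⁻¹ * φ₁ (A x) ∈ S₁ :=
    mul_mem (Subgroup.inv_mem _ hA₁) (apply_mem hφ₁ _)
  have hβ : (B x : Ω)⁻¹ * φ₂ (B x) ∈ S₂ :=
    mul_mem (Subgroup.inv_mem _ hB₂) (apply_mem hφ₂ _)
  have e1 : (x : Ω)⁻¹ * χ x = (A x : Ω)⁻¹ * φ₁ (A x) := by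
    show (x : Ω)⁻¹ * (φ₁ (A x) * B x) = _
    rw [← hAB x, mul_inv_rev, show (B x : Ω)⁻¹ * (A x : Ω)⁻¹ * (φ₁ (A x) * B x) =
      (B x : Ω)⁻¹ * ((A x : Ω)⁻¹ * φ₁ (A x) * B x) by group, hc _ hα _ hB₂, inv_mul_cancel_left]
  have e2 : (x : Ω)⁻¹ * φ x = (A x : Ω)⁻¹ * φ₁ (A x) * ((B x : Ω)⁻¹ * φ₂ (B x)) := by
    rw [hv x _ _ (hAB x), hc _ hα _ hβ]
    conv_lhs => rw [← hAB x, mul_inv_rev]
    rw [show (B x : Ω)⁻¹ * (A x : Ω)⁻¹ * (φ₁ (A x) * φ₂ (B x)) =
      (B x : Ω)⁻¹ * ((A x : Ω)⁻¹ * φ₁ (A x) * φ₂ (B x)) by group, hc _ hα _ (apply_mem hφ₂ _)]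
    simp only [mul_assoc]
  have hαU : (A x : Ω)⁻¹ * φ₁ (A x) ∈ U :=
    e1 ▸ mul_mem (Subgroup.inv_mem _ (hP x.2)) hχU
  rw [e2]
  refine Subgroup.mul_mem_sup ⟨hαU, hα⟩ ⟨?_, hβ⟩
  have := mul_mem (Subgroup.inv_mem _ hαU)
    (e2 ▸ mul_mem (Subgroup.inv_mem _ (hP x.2)) hφU : _ ∈ U)
  rwa [inv_mul_cancel_left] at this

/-- **Components of central products.** -/
theorem chain_or_chain [Fact p.Prime] (n : ℕ) : ∀ {S S₁ S₂ : Subgroup Ω} [Finite S]
    (_ : IsPGroup p S) {F : FusionSystem S} {F₁ : FusionSystem S₁} {F₂ : FusionSystem S₂},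
    F.IsSaturated p → F₁.IsSaturated p → F₂.IsSaturated p → S₁ ≤ S → S₂ ≤ S →
    IsCentralProductOf F₁ F₂ F → ∀ {T : Subgroup Ω} {C : FusionSystem T},
      NormalChain p n C F → C.Quasisimple p →
        C.IsSubnormalIn F₁ p ∨ C.IsSubnormalIn F₂ p := by
  induction n with
  | zero =>
    intro S S₁ S₂ _ hS F F₁ F₂ hF h₁ h₂ hS₁ hS₂ hprod T C hC hq
    have := finite_of_le hS₁
    have := finite_of_le hS₂
    obtain ⟨hc, hZ₁, hZ₂, hSS, hD⟩ :=
      structure_of_centralProduct (hS.to_le hS₁) (hS.to_le hS₂) h₁ h₂ hprod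
    cases hC
    have hn₁ := left_isNormalIn h₁ hF hc hZ₁ hZ₂ hSS hD
    have hn₂ := left_isNormalIn h₂ hF (fun b hb a ha => (hc a ha b hb).symm)
      (inf_comm S₁ S₂ ▸ hZ₂) (inf_comm S₁ S₂ ▸ hZ₁) (sup_comm S₁ S₂ ▸ hSS) (prodMaps_symm hc hD)
    rcases (NormalChain.refl (p := p) F).of_not_central hS hq hn₁ with hc₁ | hch
    · rcases (NormalChain.refl (p := p) F).of_not_central hS hq hn₂ with hc₂ | hch
      · refine absurd ?_ (not_le_center hq)
        conv_lhs => rw [hSS]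
        rw [inf_eq_right.2 hS₁] at hc₁
        rw [inf_eq_right.2 hS₂] at hc₂
        exact sup_le hc₁ hc₂
      · exact Or.inr hch.isSubnormalIn
    · exact Or.inl hch.isSubnormalIn
  | succ n ih =>
    intro S S₁ S₂ _ hS F F₁ F₂ hF h₁ h₂ hS₁ hS₂ hprod T C hC hq
    have := finite_of_le hS₁
    have := finite_of_le hS₂
    obtain ⟨hc, hZ₁, hZ₂, hSS, hD⟩ :=
      structure_of_centralProduct (hS.to_le hS₁) (hS.to_le hS₂) h₁ h₂ hprod
    have hn₁ := left_isNormalIn h₁ hF hc hZ₁ hZ₂ hSS hD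
    have hn₂ := left_isNormalIn h₂ hF (fun b hb a ha => (hc a ha b hb).symm)
      (inf_comm S₁ S₂ ▸ hZ₂) (inf_comm S₁ S₂ ▸ hZ₁) (sup_comm S₁ S₂ ▸ hSS) (prodMaps_symm hc hD)
    cases hC with
    | @step _ _ U _ _ D _ hCD hDF =>
    have hU := hDF.1.2.2.2.1
    have := finite_of_le hU.1
    have hUp : IsPGroup p U := hS.to_le hU.1
    obtain ⟨M₁, -, hM₁D, hM₁F⟩ := FusionComponents.exists_normal_inter hS hDF hn₁
    obtain ⟨M₂, -, hM₂D, hM₂F⟩ := FusionComponents.exists_normal_inter hS hDF hn₂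
    have := finite_of_le (inf_le_left : U ⊓ S₁ ≤ U)
    have := finite_of_le (inf_le_left : U ⊓ S₂ ≤ U)
    have hp₁ : IsPGroup p ↥(U ⊓ S₁) := hUp.to_le inf_le_left
    have hp₂ : IsPGroup p ↥(U ⊓ S₂) := hUp.to_le inf_le_left
    have hR₁ := CfsgLib.PPrimeResidual.residual_isPPrimeResidual hp₁ hM₁D.1.1
    have hR₂ := CfsgLib.PPrimeResidual.residual_isPPrimeResidual hp₂ hM₂D.1.1
    have hR₁D := isNormalIn_of_isPPrimeResidual hUp hM₁D.1 hR₁
    have hR₂D := isNormalIn_of_isPPrimeResidual hUp hM₂D.1 hR₂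
    have hR₁F := isNormalIn_of_isPPrimeResidual (hS.to_le hS₁) hM₁F.1 hR₁
    have hR₂F := isNormalIn_of_isPPrimeResidual (hS.to_le hS₂) hM₂F.1 hR₂
    have hc' : ∀ a ∈ U ⊓ S₁, ∀ b ∈ U ⊓ S₂, a * b = b * a := fun a ha b hb => hc a ha.2 b hb.2
    have hsc := stronglyClosed_inf hM₁D.1.2.2.2.1 hM₂D.1.2.2.2.1
    have hz₁ := le_center_residual (Z := (U ⊓ S₁) ⊓ (U ⊓ S₂)) hp₁ hM₁D.1.1
      ⟨inf_le_left, fun R hR φ hφ => hsc.2 R hR φ (hM₁D.1.2.2.1 R hφ)⟩
      (le_antisymm inf_le_left fun a ha => mem_centralizerIn.2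
        ⟨ha, fun z hz => (hc' a ha z hz.2).symm⟩) hR₁
    have hz₂ := le_center_residual (Z := (U ⊓ S₁) ⊓ (U ⊓ S₂)) hp₂ hM₂D.1.1
      ⟨inf_le_right, fun R hR φ hφ => hsc.2 R hR φ (hM₂D.1.2.2.1 R hφ)⟩
      (le_antisymm inf_le_left fun b hb => mem_centralizerIn.2
        ⟨hb, fun z hz => hc' z hz.1 b hb⟩) hR₂
    obtain ⟨D', hD's, hD'c, hD'⟩ :=
      exists_central_product hp₁ hp₂ hR₁D.1.1 hR₂D.1.1 hc' hz₁ hz₂
    have hD'n := isNormalIn_product hUp hR₁D hR₂D hc' hz₁ hz₂ hD's hD'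
    rcases hCD.of_not_central hUp hq hD'n with hcen | hch
    · refine absurd (le_trans (le_inf le_rfl ?_) hcen) ?_
      · refine hq.2.1.ge.trans ((Subgroup.closure_le _).2 ?_)
        rintro _ ⟨P, α, x, hP, -, rfl⟩
        exact inv_mul_apply_mem hc hZ₁ hZ₂ hD hU (hP.trans hCD.isSubsystemOf.2)
          (hDF.1.2.2.1 _ (hCD.isSubsystemOf.1 _ ((mem_autGroup_iff hP).1 α.2))) x
      · have := finite_of_le hCD.isSubsystemOf.2
        exact not_le_center hq
    have := finite_of_le (sup_le inf_le_left inf_le_left : (U ⊓ S₁) ⊔ (U ⊓ S₂) ≤ U)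
    exact (ih (hUp.to_le (sup_le inf_le_left inf_le_left)) hD's hR₁D.1.1 hR₂D.1.1 le_sup_left
      le_sup_right hD'c hch hq).imp (.step · hR₁F) (.step · hR₂F)

end CfsgLib.FusionLayer.Components
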